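import Mathlib
import Cfsg.Prelude.Def_GeometricClasses
import Cfsg.Agent.Lib.Helper29.C6P.DefsS

set_option autoImplicit false

/-!
# Project C6P (designer helper10): S6000 = `PSL_4(p)`, `p ≡ 1 (mod 4)`, the normalizer of `R = 4 ∘ 2^{1+4}`.  Definitions.

`M4 F` = 4 × 4 matrices.  Basis index `2a + b` (`a` = first qubit, `b` = second qubit).  Standard Pauli matrices `pX1 pD1 pX2 pD2` and words `pauliM` (helper29's `DefsS`),
the Clifford elements `CZ`, `UB i`, `UBp i`, `UA i` (order 3 mod scalars), `Y5 i` (order 5 mod scalars), all with entries in `ℤ[i]`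
(`i : F` with `i * i = -1`).  `IsStd i R` : `R` is the standard group of Pauli words.  `RCtx i R` : the abstract facts used downstream.
-/

namespace Cfsg.Agent.Lib.Helper10.C6P

abbrev M4 (F : Type*) [Field F] := Matrix (Fin 4) (Fin 4) F

section mats

variable (F : Type*) [Field F]

/-- controlled-Z: `CZ pX1 = (pX1 pD2) CZ`, `CZ pX2 = (pD1 pX2) CZ`, commutes with `pD1`, `pD2`
(`pD1 pX1 pD2 pX2` = `Z⊗1, X⊗1, 1⊗Z, 1⊗X` are helper29's matrices, `Cfsg.Agent.Lib.Helper29.C6P.DefsS`) -/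
def CZ : M4 F := !![1, 0, 0, 0; 0, 1, 0, 0; 0, 0, 1, 0; 0, 0, 0, -1]

end mats

section imats

variable {F : Type*} [Field F]

/-- `UB = -1 - i pX1 + pX1 pD1 - i pD1` (`= 2 u_B`): `UB² + 2 UB + 4 = 0`, `UB pX1 = pD1 UB`, `UB pD1 = (i pX1 pD1) UB`, commutes with `pX2`, `pD2` -/
def UB (i : F) : M4 F :=
  !![-1 - i, 0, -1 - i, 0; 0, -1 - i, 0, -1 - i; 1 - i, 0, -1 + i, 0; 0, 1 - i, 0, -1 + i]
/-- the same on the second qubit: `UBp pX2 = pD2 UBp`, `UBp pD2 = (i pX2 pD2) UBp`, commutes with `pX1`, `pD1` -/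
def UBp (i : F) : M4 F :=
  !![-1 - i, -1 - i, 0, 0; 1 - i, -1 + i, 0, 0; 0, 0, -1 - i, -1 - i; 0, 0, 1 - i, -1 + i]
/-- `UA = UB * UBp` (`= 4 u_A`): `UA ^ 3 = 64`, `det (UA - 4) = 0`, `UA ≠ 4` -/
def UA (i : F) : M4 F := UB i * UBp i
/-- `Y5 ^ 5 = (32 i) • 1`; `Y5 pX1 = (i³ pX1 pD1 pX2) Y5`, `Y5 pD1 = pX1 Y5`, `Y5 pX2 = (pX1 pD2) Y5`, `Y5 pD2 = pX2 Y5` -/
def Y5 (i : F) : M4 F :=
  !![1, 1, i, -i; 1, -1, i, i; 1, 1, -i, i; 1, -1, -i, -i]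

/-- `R` is the standard group `4 ∘ 2^{1+4}` = the Pauli words `pauliM i a b c d e = i^a • (pD1^b * pX1^c * pD2^d * pX2^e)` (helper29's `DefsS`) -/
def IsStd (i : F) (R : Subgroup (GL (Fin 4) F)) : Prop :=
  i * i = -1 ∧ ∀ g : GL (Fin 4) F, g ∈ R ↔ ∃ a b c d e : ℕ, (g : M4 F) = pauliM i a b c d e

/-- `M` normalizes `R` (matrix form): `M` invertible and conjugation by it maps `R` to `R` -/
def Nrm (R : Subgroup (GL (Fin 4) F)) (M : M4 F) : Prop :=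
  ∃ n : GL (Fin 4) F, (n : M4 F) = M ∧ n ∈ Cfsg.Geo.subgroupNormalizer R

/-- the abstract facts about `R = 4 ∘ 2^{1+4} ≤ GL_4(F)` used by the counting / trace / rank-one arguments -/
structure RCtx (i : F) (R : Subgroup (GL (Fin 4) F)) : Prop where
  hi : i * i = -1
  two : (2 : F) ≠ 0
  card : Nat.card R = 64
  iR : ∃ g ∈ R, (g : M4 F) = i • (1 : M4 F)
  scal : ∀ g ∈ R, ∀ c : F, (g : M4 F) = c • (1 : M4 F) → c ^ 4 = 1
  cen : ∀ g ∈ R, (∀ h ∈ R, h * g = g * h) → ∃ c : F, (g : M4 F) = c • (1 : M4 F)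
  pm : ∀ g ∈ R, ∀ h ∈ R, (h : M4 F) * (g : M4 F) = (g : M4 F) * (h : M4 F) ∨
    (h : M4 F) * (g : M4 F) = - ((g : M4 F) * (h : M4 F))
  neg : ∀ g ∈ R, (∀ c : F, (g : M4 F) ≠ c • (1 : M4 F)) →
    ∃ h ∈ R, (h : M4 F) * (g : M4 F) = - ((g : M4 F) * (h : M4 F))
  comm : ∀ M : M4 F, (∀ g ∈ R, M * (g : M4 F) = (g : M4 F) * M) → ∃ c : F, M = c • (1 : M4 F)
  irr : ∀ W : Submodule F (Fin 4 → F), (∀ g ∈ R, W.map (Matrix.toLin' (g : M4 F)) ≤ W) → W = ⊥ ∨ W = ⊤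

/-- the left side of the frozen statement: every element of order `r` of `PSL_4` fixes a point of `Ω` -/
def AllFix (R : Subgroup (GL (Fin 4) F)) (r : ℕ) : Prop :=
  ∀ x ∈ Cfsg.Geo.specialLinear (Fin 4) F,
    (∃ z : F, ((x ^ r : GL (Fin 4) F) : Matrix (Fin 4) (Fin 4) F) = z • (1 : Matrix (Fin 4) (Fin 4) F)) →
    (∀ z : F, (x : Matrix (Fin 4) (Fin 4) F) ≠ z • (1 : Matrix (Fin 4) (Fin 4) F)) →
    ∃ g ∈ Cfsg.Geo.specialLinear (Fin 4) F, g⁻¹ * x * g ∈ Cfsg.Geo.subgroupNormalizer R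

/-- the output of the structure part: `R` is conjugate to the standard group -/
def HasStd (i : F) (R : Subgroup (GL (Fin 4) F)) : Prop :=
  ∃ P : GL (Fin 4) F, IsStd i (R.map (MulAut.conj P).toMonoidHom)

end imats

end Cfsg.Agent.Lib.Helper10.C6P
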